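import Mathlib
import Groth.Agent.MiscGeom.RelSkConclude
import Groth.Agent.MiscGeom.FourTermH2
import Groth.Agent.Flatmor4.DevissageBaseChange

/-!
# Flatness of the cokernel from the `(S₂)` property of the fibre of the kernel
-/

set_option autoImplicit false
universe u

open TensorProduct IsLocalRing Groth.MiscGeom.QGor

set_option maxHeartbeats 1600000
set_option synthInstance.maxHeartbeats 400000
set_option linter.style.haveILetI false
set_option linter.unusedSectionVars false

noncomputable section

namespace Groth.QGorRefine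

/-- primes of the fibre local ring -/
theorem exists_prime_fibLocRing {A B : Type u} [CommRing A] [CommRing B] [Algebra A B] (n P : Ideal B) [n.IsPrime]
    [P.IsPrime] (hPn : P ≤ n) (hI : (n.comap (algebraMap A B)).map (algebraMap A B) ≤ P) :
    ∃ P' : PrimeSpectrum (EGA4.FibLocRing A B n), P'.asIdeal.comap (algebraMap B (EGA4.FibLocRing A B n)) = P := by
  let Bn := Localization.AtPrime n
  have hdisj : Disjoint (n.primeCompl : Set B) P := Set.disjoint_left.2 fun a ha h => ha (hPn h)
  let Pn : Ideal Bn := P.map (algebraMap B Bn)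
  haveI : Pn.IsPrime := IsLocalization.isPrime_of_isPrime_disjoint n.primeCompl Bn P inferInstance hdisj
  let π : Bn →+* EGA4.FibLocRing A B n := Ideal.Quotient.mk _
  have hker : RingHom.ker π ≤ Pn := by
    rw [Ideal.mk_ker, IsScalarTower.algebraMap_eq A B Bn, ← Ideal.map_map]
    exact Ideal.map_mono hI
  refine ⟨⟨Pn.map π, Ideal.map_isPrime_of_surjective Ideal.Quotient.mk_surjective hker⟩, ?_⟩
  show (Pn.map π).comap (π.comp (algebraMap B Bn)) = P
  rw [← Ideal.comap_comap, Ideal.comap_map_of_surjective π Ideal.Quotient.mk_surjective, ← RingHom.ker_eq_comap_bot,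
    sup_eq_left.2 hker]
  exact IsLocalization.under_map_of_isPrime_disjoint n.primeCompl Bn (by infer_instance) hdisj

/-- the primes of the fibre local ring are ordered as their traces -/
theorem le_of_comap_le {A B : Type u} [CommRing A] [CommRing B] [Algebra A B] (n : Ideal B) [n.IsPrime]
    (P Q : Ideal (EGA4.FibLocRing A B n))
    (h : P.comap (algebraMap B (EGA4.FibLocRing A B n)) ≤ Q.comap (algebraMap B (EGA4.FibLocRing A B n))) : P ≤ Q := by
  intro x hx
  obtain ⟨x, rfl⟩ := Ideal.Quotient.mk_surjective x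
  obtain ⟨a, s, rfl⟩ := IsLocalization.exists_mk'_eq n.primeCompl x
  let π : Localization.AtPrime n →+* EGA4.FibLocRing A B n := Ideal.Quotient.mk _
  have h1 : π (IsLocalization.mk' _ a s) * π (algebraMap B _ (s : B)) = π (algebraMap B _ a) := by
    rw [← map_mul, IsLocalization.mk'_spec]
  have h2 : π (algebraMap B _ a) ∈ Q := h (show π (algebraMap B _ a) ∈ P from h1 ▸ Ideal.mul_mem_right _ _ hx)
  rw [← h1] at h2
  exact (Ideal.unit_mul_mem_iff_mem Q ((IsLocalization.map_units (Localization.AtPrime n) s).map π)).1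
    (by rw [mul_comm]; exact h2)

/-- the fibre of a module is a base change -/
theorem exists_fibLocMod_equiv {A B : Type u} [CommRing A] [CommRing B] [Algebra A B] (n : Ideal B) [n.IsPrime]
    (X : Type u) [AddCommGroup X] [Module B X] :
    Nonempty (EGA4.FibLocMod A B n X ≃ₗ[EGA4.FibLocRing A B n] EGA4.FibLocRing A B n ⊗[B] X) :=
  ⟨LinearEquiv.extendScalarsOfSurjective (R := Localization.AtPrime n) Ideal.Quotient.mk_surjective
    ((TensorProduct.quotTensorEquivQuotSMul (LocalizedModule n.primeCompl X)
        ((n.comap (algebraMap A B)).map (algebraMap A (Localization.AtPrime n)))).symm.trans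
      ((AlgebraTensorModule.congr (LinearEquiv.refl (Localization.AtPrime n) (EGA4.FibLocRing A B n))
          (LocalizedModule.equivTensorProduct n.primeCompl X)).trans
        (AlgebraTensorModule.cancelBaseChange B (Localization.AtPrime n) (Localization.AtPrime n)
          (EGA4.FibLocRing A B n) X)))⟩

/-- depth two of a localised `(S₂)` module having a generic point of the ring in its support -/
theorem two_le_depth_localized {T : Type u} [CommRing T] [IsNoetherianRing T] {M : Type u} [AddCommGroup M] [Module T M]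
    [Module.Finite T M] (hSk : LocCoh.HasSk 2 T M) (J : Ideal T) (hT' : 2 ≤ LocCoh.idealDepth J T)
    (Q : Ideal T) [Q.IsPrime] (hJQ : J ≤ Q) (R0 : Ideal T) [R0.IsPrime] (hR0min : R0 ∈ minimalPrimes T)
    (hR0Q : R0 ≤ Q) (hP0 : (⟨R0, inferInstance⟩ : PrimeSpectrum T) ∈ Module.support T M) :
    (2 : ℕ∞) ≤ LocCoh.depth (Localization.AtPrime Q) (LocalizedModule Q.primeCompl M) := by
  let TQ := Localization.AtPrime Q
  let R0' := R0.map (algebraMap T TQ)
  have hdisj : Disjoint (Q.primeCompl : Set T) R0 := Set.disjoint_left.2 fun a ha h => ha (hR0Q h)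
  haveI : R0'.IsPrime := IsLocalization.isPrime_of_isPrime_disjoint Q.primeCompl TQ R0 inferInstance hdisj
  haveI : Module.Finite TQ (LocalizedModule Q.primeCompl M) :=
    Module.Finite.of_isLocalizedModule Q.primeCompl (LocalizedModule.mkLinearMap Q.primeCompl M)
  have hann : Module.annihilator TQ (LocalizedModule Q.primeCompl M) ≤ R0' := fun z hz => by
    obtain ⟨a, c, rfl⟩ := IsLocalization.exists_mk'_eq Q.primeCompl z
    obtain ⟨y, hy⟩ := Module.mem_support_iff'.1 hP0
    have h1 : algebraMap T TQ a ∈ Module.annihilator TQ (LocalizedModule Q.primeCompl M) := by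
      rw [← IsLocalization.mk'_spec TQ a c]
      exact Ideal.mul_mem_right _ _ hz
    have h0 := Module.mem_annihilator.1 h1 (LocalizedModule.mkLinearMap Q.primeCompl M y)
    rw [algebraMap_smul, ← map_smul, IsLocalizedModule.eq_zero_iff Q.primeCompl] at h0
    obtain ⟨d, hd⟩ := h0
    rw [Submonoid.smul_def, ← mul_smul] at hd
    refine (IsLocalization.mk'_mem_iff).2 (Ideal.mem_map_of_mem _ ?_)
    by_contra haR
    refine hy _ (fun h => ?_) hd
    rcases (inferInstance : R0.IsPrime).mem_or_mem h with h | h
    · exact d.2 (hR0Q h)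
    · exact haR h
  let eT : LocalizedModule Q.primeCompl T ≃ₗ[TQ] TQ :=
    LinearEquiv.extendScalarsOfIsLocalization Q.primeCompl TQ
      (IsLocalizedModule.iso Q.primeCompl (Algebra.linearMap T TQ))
  have hd : (2 : ℕ∞) ≤ LocCoh.depth TQ TQ :=
    (hT'.trans (Groth.LocCohBase.idealDepth_le_depth_localized _ Q hJQ T)).trans_eq
      (Groth.LocCohBase.idealDepth_congr eT)
  have hass : R0' ∈ associatedPrimes TQ TQ := by
    refine Module.associatedPrimes.minimalPrimes_annihilator_subset_associatedPrimes TQ TQ ⟨⟨inferInstance, ?_⟩, fun Q' hQ' hle' => ?_⟩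
    · intro a ha
      rw [show a = 0 by simpa using Module.mem_annihilator.1 ha 1]
      exact Ideal.zero_mem _
    · haveI := hQ'.1
      rw [Ideal.map_le_iff_le_comap]
      refine hR0min.2 ⟨inferInstance, bot_le⟩ ?_
      intro a ha
      have h1 : a ∈ R0'.comap (algebraMap T TQ) := hle' ha
      exact (IsLocalization.under_map_of_isPrime_disjoint Q.primeCompl TQ (by infer_instance) hdisj).le h1
  have hdim : ((2 : ℕ) : WithBot ℕ∞) ≤ Module.supportDim TQ (LocalizedModule Q.primeCompl M) := by
    rw [Module.supportDim_eq_ringKrullDim_quotient_annihilator]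
    exact ((WithBot.coe_le_coe.2 hd).trans (Groth.LocCohBase.depth_le_ringKrullDim_quotient hass)).trans
      (ringKrullDim_le_of_surjective _ (Ideal.Quotient.factor_surjective hann))
  exact WithBot.coe_le_coe.1 ((le_min le_rfl hdim).trans (hSk Q))

variable {A B : Type u} [CommRing A] [CommRing B] [IsLocalRing A] [IsNoetherianRing A] [IsNoetherianRing B]
  [Algebra A B] [Module.Flat A B]

theorem comap_eq_maximalIdeal {P r : Ideal B} [P.IsPrime] (hPr : P ≤ r) (hP : EGA4.mB A B ≤ P)
    (hr : r.comap (algebraMap A B) = maximalIdeal A) : P.comap (algebraMap A B) = maximalIdeal A :=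
  le_antisymm ((Ideal.comap_mono hPr).trans hr.le) (Ideal.map_le_iff_le_comap.1 hP)

section

variable {k m : ℕ} {F : Type u} [AddCommGroup F] [Module B F]
  (f : F →ₗ[B] (Fin k → B)) (u : (Fin k → B) →ₗ[B] (Fin m → B)) (hf : Function.Injective f)
  (hfu : Function.Exact f u) (J : Ideal B)
  (hG : ∀ q : PrimeSpectrum B, ¬ J ≤ q.asIdeal →
    Module.Free (Localization.AtPrime q.asIdeal)
      (LocalizedModule q.asIdeal.primeCompl ((Fin m → B) ⧸ LinearMap.range u)))
  (r : Ideal B) [r.IsPrime] (hr : r.comap (algebraMap A B) = maximalIdeal A)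
  (hE : 1 ≤ LocCoh.idealDepth (J.map (algebraMap B (EGA4.FibLocRing A B r))) (EGA4.FibLocMod A B r (Fin k → B)))
  (hker : ∀ P : PrimeSpectrum B, P.asIdeal ≤ r → EGA4.mB A B ≤ P.asIdeal → ¬ J ≤ P.asIdeal →
    ∀ x : F, ∃ t ∉ P.asIdeal, t • x = 0)
include hf hfu hG hr hE hker

theorem exists_smul_mem_of_apply_mem (e : Fin k → B) (he : u e ∈ EGA4.mB A B • (⊤ : Submodule B (Fin m → B))) :
    ∃ t ∉ r, t • e ∈ EGA4.mB A B • (⊤ : Submodule B (Fin k → B)) := by
  let T := EGA4.FibLocRing A B r
  let E := EGA4.FibLocMod A B r (Fin k → B)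
  let L := LocalizedModule r.primeCompl (Fin k → B)
  let I' : Ideal (Localization.AtPrime r) := (r.comap (algebraMap A B)).map (algebraMap A (Localization.AtPrime r))
  let x : E := Submodule.Quotient.mk (LocalizedModule.mkLinearMap r.primeCompl (Fin k → B) e)
  have hmem : ∀ w ∈ EGA4.mB A B • (⊤ : Submodule B (Fin k → B)),
      LocalizedModule.mkLinearMap r.primeCompl (Fin k → B) w ∈ I' • (⊤ : Submodule (Localization.AtPrime r) L) := by
    intro w hw
    refine Submodule.smul_induction_on hw (fun a ha z _ => ?_) fun a b ha hb => by rw [map_add]; exact add_mem ha hb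
    rw [map_smul, ← algebraMap_smul (Localization.AtPrime r) a]
    refine Submodule.smul_mem_smul ?_ trivial
    show algebraMap B _ a ∈ (r.comap (algebraMap A B)).map (algebraMap A (Localization.AtPrime r))
    rw [hr, IsScalarTower.algebraMap_eq A B (Localization.AtPrime r), ← Ideal.map_map]
    exact Ideal.mem_map_of_mem _ ha
  haveI : Module.Finite T E := Module.Finite.of_restrictScalars_finite (Localization.AtPrime r) T E
  have hx : x = 0 := by
    refine Groth.DepthRefl.eq_zero_of_killed _ hE x fun P' hP' => ?_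
    let P : PrimeSpectrum B := ⟨P'.asIdeal.comap (algebraMap B T), inferInstance⟩
    have hPJ : ¬ J ≤ P.asIdeal := fun h => hP' (Ideal.map_le_iff_le_comap.2 h)
    have hPr : P.asIdeal ≤ r := fun b hb => by
      by_contra hbr
      exact P'.2.ne_top (Ideal.eq_top_of_isUnit_mem _ hb
        ((IsLocalization.map_units (Localization.AtPrime r) (⟨b, hbr⟩ : r.primeCompl)).map (Ideal.Quotient.mk _)))
    have hPm : EGA4.mB A B ≤ P.asIdeal := fun b hb => by
      show algebraMap B T b ∈ P'.asIdeal
      rw [show algebraMap B T b = 0 from Ideal.Quotient.eq_zero_iff_mem.2 (by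
        rw [hr, IsScalarTower.algebraMap_eq A B (Localization.AtPrime r), ← Ideal.map_map]
        exact Ideal.mem_map_of_mem _ hb)]
      exact P'.asIdeal.zero_mem
    haveI := hG P hPJ
    obtain ⟨t, ht, ρ, σ, h1, -⟩ := exists_splitting_at P.asIdeal f u hf hfu
    obtain ⟨t', ht', hρ⟩ := hker P hPr hPm hPJ (ρ e)
    have hmem' : (t' * t) • e ∈ EGA4.mB A B • (⊤ : Submodule B (Fin k → B)) := by
      have h := congrArg (fun g => t' • g) (LinearMap.congr_fun h1 e)
      simp only [LinearMap.add_apply, LinearMap.comp_apply, LinearMap.smul_apply, LinearMap.id_apply] at h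
      rw [smul_add, ← map_smul f, hρ, map_zero, zero_add, ← map_smul σ, smul_smul] at h
      rw [← h]
      have hu : σ (t' • u e) ∈ (EGA4.mB A B • (⊤ : Submodule B (Fin m → B))).map σ :=
        Submodule.mem_map_of_mem (Submodule.smul_mem _ _ he)
      rw [Submodule.map_smul''] at hu
      exact Submodule.smul_mono le_rfl le_top hu
    refine ⟨algebraMap B T (t' * t), fun h => (P.2.mem_or_mem h).elim ht' ht, ?_⟩
    show Submodule.Quotient.mk (algebraMap B (Localization.AtPrime r) (t' * t) • _) = (0 : E)
    rw [Submodule.Quotient.mk_eq_zero, algebraMap_smul, ← map_smul]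
    exact hmem _ hmem'
  rw [Submodule.Quotient.mk_eq_zero] at hx
  have hI : I' • (⊤ : Submodule (Localization.AtPrime r) L) =
      (maximalIdeal A).map (algebraMap A (Localization.AtPrime r)) • ⊤ := by
    show (r.comap (algebraMap A B)).map (algebraMap A (Localization.AtPrime r)) • _ = _
    rw [hr]
  rw [hI, ← Submodule.restrictScalars_mem A, Ideal.smul_restrictScalars, Submodule.restrictScalars_top] at hx
  obtain ⟨w, hw, s, hws⟩ := exists_smul_mem_of_mem_smul_top r _ hx
  obtain ⟨c, hc⟩ := LocalizedModule.mk_eq.1 (hws : LocalizedModule.mk e 1 = LocalizedModule.mk w s)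
  refine ⟨(c * s : r.primeCompl), (c * s).2, ?_⟩
  rw [one_smul, Submonoid.smul_def, Submonoid.smul_def, smul_smul, Submonoid.smul_def] at hc
  rw [Submonoid.coe_mul, hc]
  exact Submodule.smul_mem _ _ hw

theorem exists_smul_eq_zero (x : F) : ∃ t ∉ r, t • x = 0 := by
  let S := Localization.AtPrime r
  let N := LocalizedModule r.primeCompl (Fin k → B)
  let M := LocalizedModule r.primeCompl (Fin m → B)
  haveI : IsLocalHom (algebraMap A S) := ⟨fun a ha => by
    by_contra hna
    have : a ∈ r.comap (algebraMap A B) := hr ▸ hna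
    rw [IsScalarTower.algebraMap_apply A B S] at ha
    exact (IsLocalization.AtPrime.to_map_mem_maximal_iff S r _).2 this ha⟩
  haveI : Module.Flat A (Fin m → B) := Module.Flat.trans A B (Fin m → B)
  haveI : Module.Flat A M := flatAt_of_flat r (Fin m → B)
  haveI : Module.Finite S N := Module.Finite.of_isLocalizedModule r.primeCompl (LocalizedModule.mkLinearMap r.primeCompl _)
  haveI : IsScalarTower A S N := IsScalarTower.of_algebraMap_smul fun a y => by
    rw [IsScalarTower.algebraMap_apply A B S, algebraMap_smul, algebraMap_smul]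
  haveI : IsScalarTower A S M := IsScalarTower.of_algebraMap_smul fun a y => by
    rw [IsScalarTower.algebraMap_apply A B S, algebraMap_smul, algebraMap_smul]
  let u' : N →ₗ[A] M := (LocalizedModule.map r.primeCompl u).restrictScalars A
  have hu' : Function.Injective (u'.lTensor (IsLocalRing.ResidueField A)) := by
    rw [injective_iff_map_eq_zero]
    intro z hz
    obtain ⟨y, rfl⟩ : ∃ y : N, (1 : IsLocalRing.ResidueField A) ⊗ₜ[A] y = z := by
      clear hz
      induction z using TensorProduct.induction_on with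
      | zero => exact ⟨0, tmul_zero _ _⟩
      | tmul c y =>
        obtain ⟨a, rfl⟩ := IsLocalRing.residue_surjective c
        exact ⟨a • y, by rw [tmul_smul, smul_tmul', Algebra.smul_def, mul_one]; rfl⟩
      | add z₁ z₂ h₁ h₂ =>
        obtain ⟨y₁, rfl⟩ := h₁
        obtain ⟨y₂, rfl⟩ := h₂
        exact ⟨y₁ + y₂, tmul_add _ _ _⟩
    rw [LinearMap.lTensor_tmul] at hz
    have hy := (congrArg (TensorProduct.quotTensorEquivQuotSMul M (maximalIdeal A)) hz).trans (map_zero (TensorProduct.quotTensorEquivQuotSMul M (maximalIdeal A)))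
    have hy' : u' y ∈ maximalIdeal A • (⊤ : Submodule A M) := by
      rw [← Submodule.Quotient.mk_eq_zero, ← hy]
      exact (TensorProduct.quotTensorEquivQuotSMul_mk_one_tmul _ _).symm
    suffices hN : y ∈ maximalIdeal A • (⊤ : Submodule A N) by
      refine (TensorProduct.quotTensorEquivQuotSMul N (maximalIdeal A)).injective (Eq.trans ?_ (map_zero (TensorProduct.quotTensorEquivQuotSMul N (maximalIdeal A))).symm)
      rw [← (Submodule.Quotient.mk_eq_zero _).2 hN]
      exact TensorProduct.quotTensorEquivQuotSMul_mk_one_tmul _ _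
    obtain ⟨w, hw, s, hws⟩ := exists_smul_mem_of_mem_smul_top r _ hy'
    induction y using LocalizedModule.induction_on with
    | _ e c =>
      have h1 : LocalizedModule.mk (u e) c = LocalizedModule.mk w s := by
        rw [← hws]
        exact (LocalizedModule.map_mk _ _ _ _).symm
      obtain ⟨d, hd⟩ := LocalizedModule.mk_eq.1 h1
      simp only [Submonoid.smul_def, smul_smul, ← map_smul] at hd
      obtain ⟨t, ht, hte⟩ := exists_smul_mem_of_apply_mem f u hf hfu J hG r hr hE hker (((d : B) * s) • e)
        (hd ▸ Submodule.smul_mem _ _ hw)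
      rw [show LocalizedModule.mk e c =
          LocalizedModule.mk (t • ((d : B) * s) • e) ((⟨t, ht⟩ * (d * s)) * c : r.primeCompl) from by
        rw [smul_smul, show t * ((d : B) * s) = ((⟨t, ht⟩ * (d * s) : r.primeCompl) : B) from rfl, ← Submonoid.smul_def,
          LocalizedModule.mk_cancel_common_left]]
      generalize t • ((d : B) * s) • e = w' at hte
      generalize (⟨t, ht⟩ * (d * s)) * c = c'
      refine Submodule.smul_induction_on hte (fun a ha z _ => ?_) fun a b ha hb => ?_
      · induction ha using Submodule.span_induction generalizing z with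
        | mem a ha =>
          obtain ⟨a, ha, rfl⟩ := ha
          rw [algebraMap_smul, ← LocalizedModule.smul'_mk]
          exact Submodule.smul_mem_smul ha trivial
        | zero => rw [zero_smul, LocalizedModule.zero_mk]; exact Submodule.zero_mem _
        | add a b _ _ ha hb =>
          rw [add_smul]
          have := add_mem (ha z trivial) (hb z trivial)
          rwa [LocalizedModule.mk_add_mk, ← smul_add, LocalizedModule.mk_cancel_common_left] at this
        | smul b a _ ha =>
          rw [smul_eq_mul, mul_comm, mul_smul]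
          exact ha (b • z) trivial
      · have := add_mem ha hb
        rwa [LocalizedModule.mk_add_mk, ← smul_add, LocalizedModule.mk_cancel_common_left] at this
  have hinj := (Groth.FlatMorOne.injective_and_flat_coker S u' hu').1
  have h0 : LocalizedModule.mkLinearMap r.primeCompl (Fin k → B) (f x) = 0 := hinj (by
    rw [map_zero]
    show LocalizedModule.map r.primeCompl u (LocalizedModule.mk (f x) 1) = 0
    rw [LocalizedModule.map_mk, hfu.apply_apply_eq_zero, LocalizedModule.zero_mk])
  obtain ⟨t, ht⟩ := (IsLocalizedModule.eq_zero_iff r.primeCompl _).1 h0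
  exact ⟨t, t.2, hf (by rw [map_smul, map_zero]; exact ht)⟩

end

/-- flatness of the cokernel at a point where the fibre of the kernel is `(S₂)` -/
theorem flatAt_coker_of_hasSk (n : Ideal B) [n.IsPrime] (hn : n.comap (algebraMap A B) = maximalIdeal A)
    (hS2 : LocCoh.HasSk 2 (EGA4.FibLocRing A B n) (EGA4.FibLocRing A B n)) (J : Ideal B)
    (hcodim : ∀ q : PrimeSpectrum B, J ≤ q.asIdeal → (2 : WithBot ℕ∞) ≤ ringKrullDim (EGA4.FibLocRing A B q.asIdeal))
    {F : Type u} [AddCommGroup F] [Module B F] [Module A F] [IsScalarTower A B F] [Module.Finite B F]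
    (hFU : ∀ q : PrimeSpectrum B, ¬ J ≤ q.asIdeal →
      Module.Free (Localization.AtPrime q.asIdeal) (LocalizedModule q.asIdeal.primeCompl F))
    {k m : ℕ} (f : F →ₗ[B] (Fin k → B)) (u : (Fin k → B) →ₗ[B] (Fin m → B)) (hf : Function.Injective f)
    (hfu : Function.Exact f u)
    (hG : ∀ q : PrimeSpectrum B, ¬ J ≤ q.asIdeal →
      Module.Free (Localization.AtPrime q.asIdeal)
        (LocalizedModule q.asIdeal.primeCompl ((Fin m → B) ⧸ LinearMap.range u)))
    (hSk : LocCoh.HasSk 2 (EGA4.FibLocRing A B n) (EGA4.FibLocMod A B n F)) :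
    FlatCA.FlatAt A n ((Fin m → B) ⧸ LinearMap.range u) := by
  have hGU : ∀ r : PrimeSpectrum B, ¬ J ≤ r.asIdeal → FlatCA.FlatAt A r.asIdeal ((Fin m → B) ⧸ LinearMap.range u) :=
    fun r hr => by
      haveI := hG r hr
      haveI : Module.Flat A (Localization.AtPrime r.asIdeal) := Module.Flat.trans A B (Localization.AtPrime r.asIdeal)
      haveI : IsScalarTower A (Localization.AtPrime r.asIdeal)
          (LocalizedModule r.asIdeal.primeCompl ((Fin m → B) ⧸ LinearMap.range u)) :=
        IsScalarTower.of_algebraMap_smul fun a x => by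
          rw [IsScalarTower.algebraMap_apply A B (Localization.AtPrime r.asIdeal), algebraMap_smul, algebraMap_smul]
      exact Module.Flat.trans A (Localization.AtPrime r.asIdeal)
        (LocalizedModule r.asIdeal.primeCompl ((Fin m → B) ⧸ LinearMap.range u))
  have hE : ∀ (q : Ideal B) [q.IsPrime], q ≤ n → q.comap (algebraMap A B) = maximalIdeal A → ∀ l : ℕ,
      (2 : ℕ∞) ≤ LocCoh.idealDepth (J.map (algebraMap B (EGA4.FibLocRing A B q))) (EGA4.FibLocMod A B q (Fin l → B)) :=
    fun q _ hqn hq l => by
      haveI : Module.Flat A (Fin l → B) := Module.Flat.trans A B (Fin l → B)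
      exact le_idealDepth_fibLocMod_of_pointwise_fibre J q (Fin l → B) 2 fun r hr hrn hrp =>
        ⟨flatAt_of_flat _ _, (two_le_idealDepth_fibLocRing_of_generization n r.asIdeal (hrn.trans hqn)
          (hrp.trans (hq.trans hn.symm)) hS2 (hcodim r hr)).trans
          (le_idealDepth_fibLocMod_projective (A := A) r.asIdeal (Fin l → B) _)⟩
  haveI : Module.Flat A (Fin k → B) := Module.Flat.trans A B (Fin k → B)
  haveI : Module.Flat A (Fin m → B) := Module.Flat.trans A B (Fin m → B)
  obtain ⟨h1, -⟩ := fourTerm_at (A := A) J f u (LinearMap.range u).mkQ hf hfu (LinearMap.exact_map_mkQ_range u)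
    (Submodule.mkQ_surjective _) hGU n (hE n le_rfl hn k) (le_trans one_le_two (hE n le_rfl hn m))
  refine h1.2 ?_
  let T := EGA4.FibLocRing A B n
  let M := EGA4.FibLocMod A B n F
  obtain ⟨eM⟩ := exists_fibLocMod_equiv (A := A) n F
  haveI : Module.Finite T M := Module.Finite.equiv eM.symm
  have hsupp : ∀ P : PrimeSpectrum T, P ∈ Module.support T M ↔
      PrimeSpectrum.comap (algebraMap B T) P ∈ Module.support B F := fun P => by
    rw [eM.support_eq]
    exact Groth.Flatmor4.mem_support_isBaseChange (TensorProduct.isBaseChange B F T) P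
  have hle : ∀ P : PrimeSpectrum T, P.asIdeal.comap (algebraMap B T) ≤ n := fun P b hb => by
    by_contra hbn
    exact P.2.ne_top (Ideal.eq_top_of_isUnit_mem _ hb
      ((IsLocalization.map_units (Localization.AtPrime n) (⟨b, hbn⟩ : n.primeCompl)).map (Ideal.Quotient.mk _)))
  have hmP : ∀ P : PrimeSpectrum T, EGA4.mB A B ≤ P.asIdeal.comap (algebraMap B T) := fun P b hb => by
    show algebraMap B T b ∈ P.asIdeal
    rw [show algebraMap B T b = 0 from Ideal.Quotient.eq_zero_iff_mem.2 (by
      rw [hn, IsScalarTower.algebraMap_eq A B (Localization.AtPrime n), ← Ideal.map_map]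
      exact Ideal.mem_map_of_mem _ hb)]
    exact P.asIdeal.zero_mem
  refine Groth.LocCohBase.le_idealDepth_of_forall_depth _ 2 M fun Q hQ hJQ => ?_
  by_cases hQM : (⟨Q, hQ⟩ : PrimeSpectrum T) ∈ Module.support T M
  swap
  · haveI : Subsingleton (LocalizedModule Q.primeCompl M) := Module.notMem_support_iff.1 hQM
    rw [LocCoh.depth, Groth.DepthRefl.depth_eq_top_of_subsingleton]
    exact le_top
  obtain ⟨R0, hR0, hR0Q⟩ := Ideal.exists_minimalPrimes_le (Module.mem_support_iff_of_finite.1 hQM)
  haveI := hR0.1.1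
  let P0 : PrimeSpectrum T := ⟨R0, inferInstance⟩
  let r0 : PrimeSpectrum B := PrimeSpectrum.comap (algebraMap B T) P0
  have hP0 : P0 ∈ Module.support T M := Module.mem_support_iff_of_finite.2 hR0.1.2
  have hmin : ∀ P : PrimeSpectrum T, P ∈ Module.support T M → P.asIdeal ≤ R0 → R0 ≤ P.asIdeal := fun P hP hle' =>
    hR0.2 ⟨P.2, Module.mem_support_iff_of_finite.1 hP⟩ hle'
  have hr0J : ¬ J ≤ r0.asIdeal := fun hJ => by
    have hcm : r0.asIdeal.comap (algebraMap A B) = maximalIdeal A := comap_eq_maximalIdeal (hle P0) (hmP P0) hn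
    refine Module.notMem_support_iff'.2 (fun x => ?_) ((hsupp P0).1 hP0)
    refine exists_smul_eq_zero f u hf hfu J hG r0.asIdeal hcm
      (le_trans one_le_two (hE r0.asIdeal (hle P0) hcm k)) (fun P hPr hPm hPJ => ?_) x
    obtain ⟨P', hP'⟩ := exists_prime_fibLocRing (A := A) n P.asIdeal (hPr.trans (hle P0)) (by rw [hn]; exact hPm)
    refine Module.notMem_support_iff'.1 fun hPF => hPJ ?_
    have hP'M : P' ∈ Module.support T M := (hsupp P').2 (by
      rwa [show PrimeSpectrum.comap (algebraMap B T) P' = P from PrimeSpectrum.ext hP'])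
    have h := hmin P' hP'M (le_of_comap_le n _ _ (hP'.le.trans hPr))
    exact hJ.trans ((Ideal.comap_mono h).trans hP'.le)
  haveI := hFU r0 hr0J
  have hR0min : R0 ∈ minimalPrimes T := by
    refine ⟨⟨inferInstance, bot_le⟩, fun P hP hle' => ?_⟩
    haveI := hP.1
    exact hmin ⟨P, inferInstance⟩ ((hsupp _).2 (Module.mem_support_iff_of_finite.2
      (annihilator_le_of_free r0 ((hsupp P0).1 hP0) _ (Ideal.comap_mono hle')))) hle'
  obtain ⟨e1⟩ := exists_fibLocMod_equiv (A := A) n (Fin 1 → B)
  have hT' : 2 ≤ LocCoh.idealDepth (J.map (algebraMap B T)) T :=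
    (hE n le_rfl hn 1).trans_eq (Groth.LocCohBase.idealDepth_congr
      (e1.trans ((TensorProduct.piScalarRight B T T (Fin 1)).trans (LinearEquiv.funUnique (Fin 1) T T))))
  exact two_le_depth_localized hSk (J.map (algebraMap B T)) hT' Q hJQ R0 hR0min hR0Q hP0

end Groth.QGorRefine

end
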