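import Mathlib
import Groth.Agent.QGorRefine.CokerFlat
import Groth.Agent.Ega4Algebra2.SkBaseChange
import Groth.Agent.Ega4Algebra2.SkRegularSeq

/-!
# The fibre hypotheses after base change, and the double dual as a kernel
-/

set_option autoImplicit false
universe u

open TensorProduct IsLocalRing Groth.MiscGeom.QGor

set_option maxHeartbeats 1600000
set_option synthInstance.maxHeartbeats 400000
set_option linter.style.haveILetI false
set_option linter.unusedSectionVars false

noncomputable section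

namespace Groth.QGorRefine

theorem hasSk_of_ringEquiv {S T : Type u} [CommRing S] [CommRing T] (e : S ≃+* T) (n : ℕ)
    (h : LocCoh.HasSk n S S) : LocCoh.HasSk n T T := by
  rw [Groth.Ega4b.hasSk_self_iff] at h ⊢
  intro P _
  refine (Groth.Ega4b.skLoc_of_ringEquiv (IsLocalization.ringEquivOfRingEquiv (Localization.AtPrime (P.comap e))
    (Localization.AtPrime P) e (M := (P.comap e).primeCompl) (T := P.primeCompl) ?_)).mp (h _)
  ext y
  exact ⟨by rintro ⟨x, hx, rfl⟩; exact hx, fun hy => ⟨e.symm y, fun h => hy (by simpa using h), e.apply_symm_apply y⟩⟩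

theorem hasSk_field (K : Type u) [Field K] (n : ℕ) : LocCoh.HasSk n K K := by
  rw [Groth.Ega4b.hasSk_self_iff]
  intro Q _
  refine (min_le_right _ _).trans (le_trans ?_ (WithBot.coe_le_coe.2 zero_le))
  rw [IsLocalization.AtPrime.ringKrullDim_eq_height Q, Ideal.eq_bot_of_prime Q, Ideal.height_bot]

variable {A B : Type u} [CommRing A] [CommRing B] [Algebra A B] [IsNoetherianRing A] [IsNoetherianRing B]

theorem hasSk_fiber_of_forall (n : ℕ)
    (h : ∀ q : PrimeSpectrum B, LocCoh.HasSk n (EGA4.FibLocRing A B q.asIdeal) (EGA4.FibLocRing A B q.asIdeal))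
    (p : Ideal A) [p.IsPrime] : LocCoh.HasSk n (p.Fiber B) (p.Fiber B) := by
  rw [Groth.Ega4b.hasSk_fiber_iff]
  intro r _ _
  letI := Groth.Ega4b.fibLocRing_isLocalRing A B r
  obtain ⟨R0, hR0, ⟨e⟩⟩ := exists_localization_fibLocRing (R := A) r r le_rfl rfl
  exact (Groth.Ega4b.skLoc_of_ringEquiv e).1 ((Groth.Ega4b.hasSk_self_iff n _).1 (h ⟨r, inferInstance⟩) R0)

theorem hasSk_fibLocRing_of_fiber (n : ℕ) (q : Ideal B) [q.IsPrime]
    (h : LocCoh.HasSk n ((q.comap (algebraMap A B)).Fiber B) ((q.comap (algebraMap A B)).Fiber B)) :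
    LocCoh.HasSk n (EGA4.FibLocRing A B q) (EGA4.FibLocRing A B q) := by
  let p := q.comap (algebraMap A B)
  let Q := PrimeSpectrum.preimageEquivFiber A B ⟨p, inferInstance⟩ ⟨⟨q, inferInstance⟩, rfl⟩
  have hQ : Q.asIdeal.comap Algebra.TensorProduct.includeRight = q :=
    congrArg (fun x => x.1.asIdeal) ((PrimeSpectrum.preimageEquivFiber A B ⟨p, inferInstance⟩).symm_apply_apply
      ⟨⟨q, inferInstance⟩, rfl⟩)
  have key : ∀ (Q' : Ideal (p.Fiber B)) [Q'.IsPrime] (r : Ideal B) [r.IsPrime],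
      Q'.comap Algebra.TensorProduct.includeRight = r → r.comap (algebraMap A B) = p →
      Nonempty (Localization.AtPrime Q' ≃+* EGA4.FibLocRing A B r) := by
    intro Q' _ r _ hr hp
    subst hr
    refine ⟨(Ideal.Fiber.algEquivAux₂ p Q').toRingEquiv.trans (Ideal.quotEquivOfEq ?_)⟩
    rw [hp, Ideal.map_map, ← IsScalarTower.algebraMap_eq]
  obtain ⟨e⟩ := key Q.asIdeal q hQ rfl
  exact hasSk_of_ringEquiv (S := Localization.AtPrime Q.asIdeal) e n (Groth.Ega4b.SkSeq.hasSk_localization n Q.asIdeal.primeCompl (Localization.AtPrime Q.asIdeal)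
    (Localization.AtPrime Q.asIdeal) (Algebra.linearMap (p.Fiber B) (Localization.AtPrime Q.asIdeal)) h)

variable {A' B' : Type u} [CommRing A'] [CommRing B'] [IsNoetherianRing A'] [IsNoetherianRing B']
  [Algebra A A'] [Algebra B B'] [Algebra A' B'] [Algebra A B'] [IsScalarTower A B B'] [IsScalarTower A A' B']
  [Algebra.IsPushout A B A' B'] [Algebra.FiniteType A B]

/-- `(S_k)` fibres are stable under base change -/
theorem hasSk_fibLocRing_baseChange (n : ℕ)
    (h : ∀ q : PrimeSpectrum B, LocCoh.HasSk n (EGA4.FibLocRing A B q.asIdeal) (EGA4.FibLocRing A B q.asIdeal))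
    (q' : Ideal B') [q'.IsPrime] :
    LocCoh.HasSk n (EGA4.FibLocRing A' B' q') (EGA4.FibLocRing A' B' q') := by
  refine hasSk_fibLocRing_of_fiber n q' ?_
  let p' := q'.comap (algebraMap A' B')
  let p := p'.comap (algebraMap A A')
  let K := p.ResidueField
  let K' := p'.ResidueField
  letI : Algebra K K' := (Ideal.ResidueField.mapₐ p p' (Algebra.ofId A A') rfl).toRingHom.toAlgebra
  haveI : IsScalarTower A K K' :=
    .of_algebraMap_eq fun x => ((Ideal.ResidueField.mapₐ p p' (Algebra.ofId A A') rfl).commutes x).symm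
  let T := p.Fiber B
  haveI : Algebra.FiniteType K T := inferInstanceAs (Algebra.FiniteType K (K ⊗[A] B))
  haveI : IsNoetherianRing T := Algebra.FiniteType.isNoetherianRing K T
  haveI : Algebra.FiniteType K' (K' ⊗[K] T) := inferInstance
  haveI : IsNoetherianRing (K' ⊗[K] T) := Algebra.FiniteType.isNoetherianRing K' (K' ⊗[K] T)
  have h1 : LocCoh.HasSk n (K' ⊗[K] T) (K' ⊗[K] T) :=
    Groth.Ega4b.hasSk_tensor n K K' T (Or.inr inferInstance) (hasSk_field K' n) (hasSk_fiber_of_forall n h p)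
  haveI : Algebra.IsPushout A A' B B' := Algebra.IsPushout.symm inferInstance
  let e1 : K' ⊗[K] T ≃+* K' ⊗[A] B := (Algebra.TensorProduct.cancelBaseChange A K K' K' B).toRingEquiv
  let e2 : K' ⊗[A'] (A' ⊗[A] B) ≃+* K' ⊗[A] B := (Algebra.TensorProduct.cancelBaseChange A A' K' K' B).toRingEquiv
  let e3 : K' ⊗[A'] (A' ⊗[A] B) ≃+* p'.Fiber B' :=
    (Algebra.TensorProduct.congr (AlgEquiv.refl : K' ≃ₐ[A'] K') (Algebra.IsPushout.equiv A A' B B')).toRingEquiv
  exact hasSk_of_ringEquiv (e1.trans (e2.symm.trans e3)) n h1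

/-- depth two of the base changed fibres along `J` -/
theorem two_le_idealDepth_fibLocRing_baseChange (J : Ideal B)
    (h : ∀ q : PrimeSpectrum B, LocCoh.HasSk 2 (EGA4.FibLocRing A B q.asIdeal) (EGA4.FibLocRing A B q.asIdeal))
    (hcodim : ∀ q : PrimeSpectrum B, J ≤ q.asIdeal → (2 : WithBot ℕ∞) ≤ ringKrullDim (EGA4.FibLocRing A B q.asIdeal))
    (r : Ideal B') [r.IsPrime] (hr : J.map (algebraMap B B') ≤ r) :
    (2 : ℕ∞) ≤ LocCoh.idealDepth (r.map (algebraMap B' (EGA4.FibLocRing A' B' r))) (EGA4.FibLocRing A' B' r) := by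
  let q := r.comap (algebraMap B B')
  have h2 := ((two_le_idealDepth_fibLocRing_of_generization (R := A) q q le_rfl rfl (h ⟨q, inferInstance⟩)
    (hcodim ⟨q, inferInstance⟩ (Ideal.map_le_iff_le_comap.1 hr))).trans
      (le_idealDepth_fibLocMod_projective (A := A) q B _)).trans
        (le_idealDepth_fibre_baseChange (A := A) (A' := A') r B)
  obtain ⟨e⟩ := exists_fibLocMod_equiv (A := A') r (B' ⊗[B] B)
  let e' := e.trans (AlgebraTensorModule.congr (LinearEquiv.refl (EGA4.FibLocRing A' B' r) (EGA4.FibLocRing A' B' r))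
    (AlgebraTensorModule.rid B B' B'))
  exact h2.trans_eq (Groth.LocCohBase.idealDepth_congr
    (e'.trans (AlgebraTensorModule.rid B' (EGA4.FibLocRing A' B' r) (EGA4.FibLocRing A' B' r))))

theorem two_le_ringKrullDim_fibLocRing_baseChange (J : Ideal B)
    (h : ∀ q : PrimeSpectrum B, LocCoh.HasSk 2 (EGA4.FibLocRing A B q.asIdeal) (EGA4.FibLocRing A B q.asIdeal))
    (hcodim : ∀ q : PrimeSpectrum B, J ≤ q.asIdeal → (2 : WithBot ℕ∞) ≤ ringKrullDim (EGA4.FibLocRing A B q.asIdeal))
    (r : Ideal B') [r.IsPrime] (hr : J.map (algebraMap B B') ≤ r) :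
    (2 : WithBot ℕ∞) ≤ ringKrullDim (EGA4.FibLocRing A' B' r) := by
  letI := Groth.Ega4b.fibLocRing_isLocalRing A' B' r
  have hle : r.map (algebraMap B' (EGA4.FibLocRing A' B' r)) ≤ maximalIdeal (EGA4.FibLocRing A' B' r) := by
    refine Ideal.map_le_iff_le_comap.2 fun b hb => ?_
    show Ideal.Quotient.mk _ (algebraMap B' (Localization.AtPrime r) b) ∈ maximalIdeal (EGA4.FibLocRing A' B' r)
    intro hu
    haveI : IsLocalHom (Ideal.Quotient.mk ((r.comap (algebraMap A' B')).map (algebraMap A' (Localization.AtPrime r)))) :=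
      IsLocalHom.of_surjective _ Ideal.Quotient.mk_surjective
    exact (IsLocalization.AtPrime.isUnit_to_map_iff (Localization.AtPrime r) r b).1 (isUnit_of_map_unit _ _ hu) hb
  have h2 : (2 : ℕ∞) ≤ LocCoh.depth (EGA4.FibLocRing A' B' r) (EGA4.FibLocRing A' B' r) :=
    (two_le_idealDepth_fibLocRing_baseChange J h hcodim r hr).trans (Groth.LocCohBase.idealDepth_mono (hle.trans Ideal.le_radical) _)
  have h3 := Groth.LocCohBase.depth_le_supportDim (R := EGA4.FibLocRing A' B' r) (EGA4.FibLocRing A' B' r)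
  rw [Module.supportDim_self_eq_ringKrullDim] at h3
  exact (WithBot.coe_le_coe.2 h2).trans h3

end Groth.QGorRefine

end
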