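import Mathlib
import Groth.Agent.S1229

/-!
# The flattening ideal at a point over a Henselian local ring
-/

set_option autoImplicit false
universe u

open TensorProduct IsLocalRing

set_option maxHeartbeats 1600000
set_option synthInstance.maxHeartbeats 400000
set_option linter.style.haveILetI false
set_option linter.unusedSectionVars false

noncomputable section

namespace Groth.QGorRefine

/-- flatness at a prime of a base change, computed on a localization -/
theorem flatAt_iff_of_localization {C Cn R' C' B' : Type u} [CommRing C] [CommRing Cn] [CommRing R'] [CommRing C']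
    [CommRing B'] [Algebra C Cn] [Algebra C C'] [Algebra R' C'] [Algebra C' B'] [Algebra Cn B'] [Algebra R' B']
    [Algebra C B'] [IsScalarTower C C' B'] [IsScalarTower C Cn B'] [IsScalarTower R' C' B']
    (M : Submonoid C') [IsLocalization M B'] (N : Submonoid C) [IsLocalization N Cn]
    (G : Type u) [AddCommGroup G] [Module C G] (q : Ideal B') [q.IsPrime] (q' : Ideal C') [q'.IsPrime]
    (hq : q.comap (algebraMap C' B') = q') :
    FlatCA.FlatAt R' q (B' ⊗[Cn] (Cn ⊗[C] G)) ↔ FlatCA.FlatAt R' q' (C' ⊗[C] G) := by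
  subst hq
  let q' := q.comap (algebraMap C' B')
  let L := Localization.AtPrime q
  haveI : IsLocalization.AtPrime L q' := IsLocalization.isLocalization_isLocalization_atPrime_isLocalization M L q
  let g : C' ⊗[C] G →ₗ[C'] L ⊗[C'] (C' ⊗[C] G) := TensorProduct.mk C' L (C' ⊗[C] G) 1
  haveI : IsLocalizedModule q'.primeCompl g :=
    (isLocalizedModule_iff_isBaseChange q'.primeCompl L g).2 (TensorProduct.isBaseChange C' (C' ⊗[C] G) L)
  let e1 : LocalizedModule q'.primeCompl (C' ⊗[C] G) ≃ₗ[R'] L ⊗[C] G :=
    ((IsLocalizedModule.iso q'.primeCompl g).restrictScalars R').trans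
      ((AlgebraTensorModule.cancelBaseChange C C' L L G).restrictScalars R')
  let e2 : LocalizedModule q.primeCompl (B' ⊗[Cn] (Cn ⊗[C] G)) ≃ₗ[R'] L ⊗[C] G :=
    ((LocalizedModule.equivTensorProduct q.primeCompl (B' ⊗[Cn] (Cn ⊗[C] G))).restrictScalars R').trans
      (((AlgebraTensorModule.cancelBaseChange Cn B' L L (Cn ⊗[C] G)).trans
        (AlgebraTensorModule.cancelBaseChange C Cn L L G)).restrictScalars R')
  constructor
  · intro h
    haveI : Module.Flat R' (LocalizedModule q.primeCompl (B' ⊗[Cn] (Cn ⊗[C] G))) := h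
    exact Module.Flat.of_linearEquiv (e1.trans e2.symm)
  · intro h
    haveI : Module.Flat R' (LocalizedModule q'.primeCompl (C' ⊗[C] G)) := h
    exact Module.Flat.of_linearEquiv (e2.trans e1.symm)

/-- the universal flattening ideal of a finite module at a point over a Henselian local ring -/
theorem exists_ideal_flatAt (R C : Type u) [CommRing R] [HenselianLocalRing R] [CommRing C] [Algebra R C]
    [Algebra.FiniteType R C] (n : Ideal C) [n.IsPrime] (hn : n.comap (algebraMap R C) = maximalIdeal R)
    (G : Type u) [AddCommGroup G] [Module C G] [Module.Finite C G] :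
    ∃ 𝔞 : Ideal R, ∀ (R' : Type u) [CommRing R'] [IsLocalRing R'] [Algebra R R'] [IsLocalHom (algebraMap R R')]
      (C' : Type u) [CommRing C'] [Algebra C C'] [Algebra R' C'] [Algebra R C'] [IsScalarTower R C C']
      [IsScalarTower R R' C'] [Algebra.IsPushout R C R' C'],
      ((∀ q' : PrimeSpectrum C', q'.asIdeal.comap (algebraMap C C') = n →
          (maximalIdeal R').map (algebraMap R' C') ≤ q'.asIdeal → FlatCA.FlatAt R' q'.asIdeal (C' ⊗[C] G)) ↔
        𝔞.map (algebraMap R R') = ⊥) := by
  let Cn := Localization.AtPrime n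
  haveI : IsLocalHom (algebraMap R Cn) := ⟨fun a ha => by
    by_contra hna
    have : a ∈ n.comap (algebraMap R C) := hn ▸ hna
    rw [IsScalarTower.algebraMap_apply R C Cn] at ha
    exact (IsLocalization.AtPrime.to_map_mem_maximal_iff Cn n _).2 this ha⟩
  haveI : Algebra.EssFiniteType R C := inferInstance
  haveI : Algebra.EssFiniteType C Cn := .of_isLocalization _ n.primeCompl
  haveI : Algebra.EssFiniteType R Cn := .comp R C Cn
  obtain ⟨𝔞, h𝔞, -⟩ := Groth.Agent.S1229.result (A := R) (B := Cn) (Cn ⊗[C] G)
  refine ⟨𝔞, fun R' _ _ _ _ C' _ _ _ _ _ _ _ => ?_⟩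
  let U := Algebra.algebraMapSubmonoid C' n.primeCompl
  let B' := Localization U
  letI : Algebra Cn B' := localizationAlgebra n.primeCompl C'
  haveI : IsScalarTower C Cn B' := IsScalarTower.of_algebraMap_eq fun x => by
    rw [RingHom.algebraMap_toAlgebra, IsLocalization.map_eq]
    exact (IsScalarTower.algebraMap_apply C C' B' x).symm
  haveI : IsScalarTower R Cn B' := IsScalarTower.of_algebraMap_eq fun x => by
    rw [IsScalarTower.algebraMap_apply R C Cn, ← IsScalarTower.algebraMap_apply C Cn B',
      ← IsScalarTower.algebraMap_apply R C B']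
  haveI : Algebra.IsPushout C Cn C' B' :=
    Algebra.IsPushout.symm (Algebra.isPushout_of_isLocalization (R := C) (A := Cn) n.primeCompl C' B')
  haveI : Algebra.IsPushout R R' C C' := Algebra.IsPushout.symm inferInstance
  haveI : Algebra.IsPushout R Cn R' B' := (Algebra.IsPushout.comp_iff (R := R) (S := C) (R' := R') (S' := C')).2 inferInstance
  have h := h𝔞 R' B' (B' ⊗[Cn] (Cn ⊗[C] G)) (TensorProduct.mk Cn B' (Cn ⊗[C] G) 1) (TensorProduct.isBaseChange _ _ _)
  refine Iff.trans ⟨fun hall q hqp hq => ?_, fun hall q' hq'n hq'm => ?_⟩ h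
  · haveI := hqp
    rw [sup_le_iff] at hq
    let q' : PrimeSpectrum C' := ⟨q.comap (algebraMap C' B'), inferInstance⟩
    refine (flatAt_iff_of_localization (R' := R') U n.primeCompl G q q'.asIdeal rfl).2 (hall q' ?_ ?_)
    · refine le_antisymm (fun c hc => ?_) fun c hc => ?_
      · by_contra hcn
        exact hqp.ne_top (Ideal.eq_top_of_isUnit_mem _ hc
          (IsLocalization.map_units B' (⟨algebraMap C C' c, c, hcn, rfl⟩ : U)))
      · show algebraMap C' B' (algebraMap C C' c) ∈ q
        rw [← IsScalarTower.algebraMap_apply, IsScalarTower.algebraMap_apply C Cn B']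
        exact hq.2 (Ideal.mem_map_of_mem _ ((IsLocalization.AtPrime.to_map_mem_maximal_iff Cn n c).2 hc))
    · rw [← Ideal.map_le_iff_le_comap, Ideal.map_map, ← IsScalarTower.algebraMap_eq]
      exact hq.1
  · have hdisj : Disjoint (U : Set C') q'.asIdeal := Set.disjoint_left.2 fun x hx hxq => by
      obtain ⟨c, hc, rfl⟩ := hx
      exact hc (hq'n.le hxq)
    let q : Ideal B' := q'.asIdeal.map (algebraMap C' B')
    haveI : q.IsPrime := IsLocalization.isPrime_of_isPrime_disjoint U B' q'.asIdeal q'.2 hdisj
    have hqc : q.comap (algebraMap C' B') = q'.asIdeal :=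
      IsLocalization.under_map_of_isPrime_disjoint U B' q'.2 hdisj
    refine (flatAt_iff_of_localization (R' := R') U n.primeCompl G q q'.asIdeal hqc).1 (hall q (sup_le ?_ ?_))
    · rw [IsScalarTower.algebraMap_eq R' C' B', ← Ideal.map_map]
      exact Ideal.map_mono hq'm
    · rw [← Localization.AtPrime.map_eq_maximalIdeal, Ideal.map_map, ← IsScalarTower.algebraMap_eq,
        IsScalarTower.algebraMap_eq C C' B', ← Ideal.map_map]
      exact Ideal.map_mono (Ideal.map_le_iff_le_comap.2 hq'n.ge)

end Groth.QGorRefine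

end
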