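import Mathlib
import Groth.Agent.QGorRefine.BaseChange

/-!
# The double dual of a base change has relative `(S₂)` iff the cokernel is flat
-/

set_option autoImplicit false
universe u

open TensorProduct IsLocalRing Groth.MiscGeom.QGor

set_option maxHeartbeats 1600000
set_option synthInstance.maxHeartbeats 400000
set_option linter.style.haveILetI false
set_option linter.unusedSectionVars false

noncomputable section

namespace Groth.QGorRefine

variable {A B : Type u} [CommRing A] [CommRing B] [Algebra A B]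

theorem flatAt_congr (q : Ideal B) [q.IsPrime] {X Y : Type u} [AddCommGroup X] [Module B X] [Module A X]
    [IsScalarTower A B X] [AddCommGroup Y] [Module B Y] [Module A Y] [IsScalarTower A B Y] (e : X ≃ₗ[B] Y)
    (h : FlatCA.FlatAt A q X) : FlatCA.FlatAt A q Y := by
  haveI : Module.Flat A (LocalizedModule q.primeCompl X) := h
  exact Module.Flat.of_linearEquiv
    (((IsLocalizedModule.mapEquiv q.primeCompl (LocalizedModule.mkLinearMap q.primeCompl X)
      (LocalizedModule.mkLinearMap q.primeCompl Y) (Localization.AtPrime q) e).restrictScalars B).restrictScalars A).symm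

theorem hasSk_fibLocMod_congr (q : Ideal B) [q.IsPrime] {X Y : Type u} [AddCommGroup X] [Module B X]
    [AddCommGroup Y] [Module B Y] (e : X ≃ₗ[B] Y) {k : ℕ}
    (h : LocCoh.HasSk k (EGA4.FibLocRing A B q) (EGA4.FibLocMod A B q X)) :
    LocCoh.HasSk k (EGA4.FibLocRing A B q) (EGA4.FibLocMod A B q Y) := by
  obtain ⟨e1⟩ := exists_fibLocMod_equiv (A := A) q X
  obtain ⟨e2⟩ := exists_fibLocMod_equiv (A := A) q Y
  exact Groth.Agent.S2668.hasSk_congr
    ((e1.trans (AlgebraTensorModule.congr (LinearEquiv.refl (EGA4.FibLocRing A B q) (EGA4.FibLocRing A B q)) e)).trans e2.symm) h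

/-- the double dual of a module mapping to a reflexive one by an isomorphism off `V(J)` -/
theorem exists_ddual_equiv {S : Type u} [CommRing S] [IsNoetherianRing S] {X N K : Type u} [AddCommGroup X] [Module S X]
    [Module.Finite S X] [AddCommGroup N] [Module S N] [Module.Finite S N] [AddCommGroup K] [Module S K]
    [Module.IsReflexive S K] (J : Ideal S) (hD : (2 : ℕ∞) ≤ LocCoh.idealDepth J S) (φ : X →ₗ[S] N)
    (hφ : HasQuasiInverseOff J φ) (e : N ≃ₗ[S] K) :
    Nonempty (Module.Dual S (Module.Dual S X) ≃ₗ[S] K) :=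
  ⟨(LinearEquiv.ofBijective φ.dualMap (bijective_dualMap J hD φ hφ)).dualMap.trans
    (e.dualMap.dualMap.trans (Module.evalEquiv S K).symm)⟩

variable {R C : Type u} [CommRing R] [CommRing C] [Algebra R C] [IsNoetherianRing R] [IsNoetherianRing C]
  [Module.Flat R C] [Algebra.FiniteType R C]
variable {R' C' : Type u} [CommRing R'] [CommRing C'] [IsLocalRing R'] [IsNoetherianRing R'] [IsNoetherianRing C']
  [Algebra R R'] [Algebra C C'] [Algebra R' C'] [Algebra R C'] [IsScalarTower R C C'] [IsScalarTower R R' C']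
  [Algebra.IsPushout R C R' C']

/-- at a point over the closed point, the double dual is flat with `(S₂)` fibre iff the cokernel is flat -/
theorem relSk_ddual_iff (J : Ideal C)
    (hS2 : ∀ q : PrimeSpectrum C, LocCoh.HasSk 2 (EGA4.FibLocRing R C q.asIdeal) (EGA4.FibLocRing R C q.asIdeal))
    (hcodim : ∀ q : PrimeSpectrum C, J ≤ q.asIdeal → (2 : WithBot ℕ∞) ≤ ringKrullDim (EGA4.FibLocRing R C q.asIdeal))
    {F : Type u} [AddCommGroup F] [Module C F] [Module.Finite C F] {k m : ℕ}
    (f : F →ₗ[C] (Fin k → C)) (u : (Fin k → C) →ₗ[C] (Fin m → C)) (hf : Function.Injective f)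
    (hfu : Function.Exact f u)
    (hG : ∀ q : PrimeSpectrum C, ¬ J ≤ q.asIdeal →
      Module.Free (Localization.AtPrime q.asIdeal)
        (LocalizedModule q.asIdeal.primeCompl ((Fin m → C) ⧸ LinearMap.range u)))
    (q' : Ideal C') [q'.IsPrime] (hq' : q'.comap (algebraMap R' C') = maximalIdeal R') :
    (FlatCA.FlatAt R' q' (Module.Dual C' (Module.Dual C' (C' ⊗[C] F))) ∧
      LocCoh.HasSk 2 (EGA4.FibLocRing R' C' q')
        (EGA4.FibLocMod R' C' q' (Module.Dual C' (Module.Dual C' (C' ⊗[C] F))))) ↔
      FlatCA.FlatAt R' q' (C' ⊗[C] ((Fin m → C) ⧸ LinearMap.range u)) := by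
  haveI : Algebra.IsPushout R R' C C' := Algebra.IsPushout.symm inferInstance
  haveI : Module.Flat R' C' := Module.Flat.isBaseChange (R := R) (M := C) (S := R') (N := C') Algebra.IsPushout.out
  let J' := J.map (algebraMap C C')
  let ek := TensorProduct.piScalarRight C C' C' (Fin k)
  let em := TensorProduct.piScalarRight C C' C' (Fin m)
  let u' : (Fin k → C') →ₗ[C'] (Fin m → C') := em.toLinearMap ∘ₗ u.baseChange C' ∘ₗ ek.symm.toLinearMap
  let G := (Fin m → C) ⧸ LinearMap.range u
  let v : (Fin m → C') →ₗ[C'] C' ⊗[C] G := (LinearMap.range u).mkQ.baseChange C' ∘ₗ em.symm.toLinearMap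
  have hv : Function.Surjective v :=
    (LinearMap.lTensor_surjective C' (Submodule.mkQ_surjective (LinearMap.range u))).comp em.symm.surjective
  have hrange : LinearMap.range u' = LinearMap.ker v := by
    refine le_antisymm ?_ fun x hx => ?_
    · rintro _ ⟨y, rfl⟩
      show (LinearMap.range u).mkQ.baseChange C' (em.symm (em (u.baseChange C' (ek.symm y)))) = 0
      rw [LinearEquiv.symm_apply_apply]
      exact ((lTensor_exact C' (LinearMap.exact_map_mkQ_range u) (Submodule.mkQ_surjective _)) _).2 ⟨_, rfl⟩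
    · obtain ⟨y, hy⟩ := ((lTensor_exact C' (LinearMap.exact_map_mkQ_range u) (Submodule.mkQ_surjective _)) _).1 hx
      refine ⟨ek y, ?_⟩
      show em (u.baseChange C' (ek.symm (ek y))) = x
      rw [LinearEquiv.symm_apply_apply, ← em.apply_symm_apply x]
      exact congrArg em hy
  let eG : ((Fin m → C') ⧸ LinearMap.range u') ≃ₗ[C'] C' ⊗[C] G :=
    (Submodule.quotEquivOfEq _ _ hrange).trans (v.quotKerEquivOfSurjective hv)
  have hG0 := free_localized_baseChange (J := J) C' G hG
  have hG' : ∀ r : PrimeSpectrum C', ¬ J' ≤ r.asIdeal → Module.Free (Localization.AtPrime r.asIdeal)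
      (LocalizedModule r.asIdeal.primeCompl ((Fin m → C') ⧸ LinearMap.range u')) := fun r hr => by
    haveI := hG0 r hr
    exact Module.Free.of_equiv (IsLocalizedModule.mapEquiv r.asIdeal.primeCompl
      (LocalizedModule.mkLinearMap r.asIdeal.primeCompl (C' ⊗[C] G))
      (LocalizedModule.mkLinearMap r.asIdeal.primeCompl ((Fin m → C') ⧸ LinearMap.range u'))
      (Localization.AtPrime r.asIdeal) eG.symm)
  let K' := LinearMap.ker u'
  have hKU : ∀ r : PrimeSpectrum C', ¬ J' ≤ r.asIdeal →
      Module.Free (Localization.AtPrime r.asIdeal) (LocalizedModule r.asIdeal.primeCompl K') := fun r hr =>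
    free_localized_ker r.asIdeal u' (LinearMap.range u').mkQ (LinearMap.exact_map_mkQ_range u')
      (Submodule.mkQ_surjective _) (hG' r hr)
  have hS2' : ∀ r : PrimeSpectrum C', LocCoh.HasSk 2 (EGA4.FibLocRing R' C' r.asIdeal) (EGA4.FibLocRing R' C' r.asIdeal) :=
    fun r => hasSk_fibLocRing_baseChange (A := R) (B := C) 2 hS2 r.asIdeal
  have hcodim' : ∀ r : PrimeSpectrum C', J' ≤ r.asIdeal →
      (2 : WithBot ℕ∞) ≤ ringKrullDim (EGA4.FibLocRing R' C' r.asIdeal) := fun r hr =>
    two_le_ringKrullDim_fibLocRing_baseChange (A := R) (B := C) J hS2 hcodim r.asIdeal hr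
  have hD : (2 : ℕ∞) ≤ LocCoh.idealDepth J' C' :=
    le_idealDepth_self_of_fibre (A := R') J' 2 fun r hr =>
      two_le_idealDepth_fibLocRing_baseChange (A := R) (B := C) J hS2 hcodim r.asIdeal hr
  have hDk : (2 : ℕ∞) ≤ LocCoh.idealDepth J' (Fin k → C') := hD.trans (Groth.DepthRefl.le_depth_pi _ _)
  have hDm : (1 : ℕ∞) ≤ LocCoh.idealDepth J' (Fin m → C') :=
    (le_trans one_le_two hD).trans (Groth.DepthRefl.le_depth_pi _ _)
  have hK : 2 ≤ LocCoh.idealDepth J' K' := two_le_idealDepth_of_exact J' K'.subtype u' Subtype.val_injective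
    (LinearMap.exact_subtype_ker_map u') hDk hDm
  haveI : Module.IsReflexive C' K' := Groth.DepthRefl.isReflexive_of_depth J' (le_trans one_le_two hD) K'
    (fun r hr => by
      haveI := hKU r hr
      haveI : Module.Finite (Localization.AtPrime r.asIdeal) (LocalizedModule r.asIdeal.primeCompl K') :=
        Module.Finite.of_isLocalizedModule r.asIdeal.primeCompl (LocalizedModule.mkLinearMap r.asIdeal.primeCompl K')
      exact isReflexive_of_free_finite _ _) hK
  let eK : LinearMap.ker (u.baseChange C') ≃ₗ[C'] K' :=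
    ek.ofSubmodules _ _ (by
      ext x
      constructor
      · rintro ⟨y, hy, rfl⟩
        show em (u.baseChange C' (ek.symm (ek y))) = 0
        rw [LinearEquiv.symm_apply_apply, show u.baseChange C' y = 0 from hy, map_zero]
      · intro hx
        refine ⟨ek.symm x, ?_, ek.apply_symm_apply x⟩
        exact em.injective (by rw [map_zero]; exact hx))
  let φ : C' ⊗[C] F →ₗ[C'] LinearMap.ker (u.baseChange C') := toKerBaseChange C' f u hfu
  haveI : Module.Finite C' (LinearMap.ker (u.baseChange C')) := Module.Finite.equiv eK.symm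
  have hφ : HasQuasiInverseOff (M := C' ⊗[C] F) (N := LinearMap.ker (u.baseChange C')) J' φ :=
    hasQuasiInverseOff_toKerBaseChange J f u hf hfu hG C'
  obtain ⟨eD⟩ := exists_ddual_equiv (X := C' ⊗[C] F) (N := LinearMap.ker (u.baseChange C')) (K := K') J' hD φ hφ eK
  constructor
  · rintro ⟨-, hsk⟩
    exact flatAt_congr q' eG (flatAt_coker_of_hasSk (A := R') q' hq' (hS2' ⟨q', inferInstance⟩) J' hcodim' hKU
      K'.subtype u' Subtype.val_injective (LinearMap.exact_subtype_ker_map u') hG'
      (hasSk_fibLocMod_congr q' eD hsk))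
  · intro hflat
    obtain ⟨h1, h2⟩ := relSk_of_flatAt_coker (R := R') q' (hS2' ⟨q', inferInstance⟩) J' hcodim' hKU K'.subtype u'
      Subtype.val_injective (LinearMap.exact_subtype_ker_map u') hG' (flatAt_congr q' eG.symm hflat)
    exact ⟨flatAt_congr q' eD.symm h1, hasSk_fibLocMod_congr q' eD.symm h2⟩

end Groth.QGorRefine

end
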